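import Cfsg.Agent.H229.FrakM
set_option linter.all false

/-!
# The asymmetric case

`M ∈ 𝔐_G(S)`, `Q` large, `Y_M` asymmetric in `G`: `N_G(R) ≤ N_G(O_p(M)) ≤ M†` for all `p`-subgroups `R ≥ O_p(M)`.
-/

set_option autoImplicit false
open Cfsg Subgroup
open Cfsg.Agent.H230

namespace Cfsg.Agent.H229

variable {G : Type*} [Group G]

theorem exists_list_of_mem {s : Set G} {x : G} (hx : x ∈ Subgroup.closure s) :
    ∃ l : List G, (∀ y ∈ l, y ∈ s ∨ y⁻¹ ∈ s) ∧ l.prod = x := by
  have h1 : x ∈ (Subgroup.closure s).toSubmonoid := hx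
  rw [Subgroup.closure_toSubmonoid] at h1
  obtain ⟨l, hl, h⟩ := Submonoid.exists_list_of_mem_closure h1
  exact ⟨l, fun y hy => by simpa using hl y hy, h⟩

/-! ### Normal closures -/

/-- `⟨Y^N⟩`, the subgroup generated by the conjugates `n Y n⁻¹`, `n ∈ N`. -/
def ncl (N Y : Subgroup G) : Subgroup G := ⨆ n : ↥N, cj (n : G) Y

theorem cj_le_ncl {N Y : Subgroup G} {n : G} (hn : n ∈ N) : cj n Y ≤ ncl N Y :=
  le_iSup (fun m : ↥N => cj (m : G) Y) ⟨n, hn⟩

theorem le_ncl (N Y : Subgroup G) : Y ≤ ncl N Y := by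
  have := cj_le_ncl (N := N) (Y := Y) (one_mem N)
  rwa [cj_one] at this

theorem ncl_le_iff {N Y K : Subgroup G} : ncl N Y ≤ K ↔ ∀ n ∈ N, cj n Y ≤ K :=
  ⟨fun h _ hn => (cj_le_ncl hn).trans h, fun h => iSup_le fun n => h n n.2⟩

theorem le_norm_ncl (N Y : Subgroup G) : N ≤ normalizer (ncl N Y : Set G) := by
  have h1 : ∀ n ∈ N, cj n (ncl N Y) ≤ ncl N Y := by
    intro n hn
    rw [cj_le_iff, ncl_le_iff]
    intro m hm
    rw [← cj_le_iff, ← cj_mul]
    exact cj_le_ncl (mul_mem hn hm)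
  intro n hn
  rw [mem_norm]
  apply le_antisymm (h1 n hn)
  rw [le_cj_iff]
  exact h1 _ (inv_mem hn)

theorem ncl_le {N Y K : Subgroup G} (hN : N ≤ normalizer (K : Set G)) (hY : Y ≤ K) : ncl N Y ≤ K := by
  rw [ncl_le_iff]
  intro n hn
  exact (cj_mono hY).trans (cj_le_of_norm (hN hn))

theorem ncl_le_self {N Y : Subgroup G} (hY : Y ≤ N) : ncl N Y ≤ N := ncl_le le_normalizer hY

theorem normalClosure_map {N Y : Subgroup G} (hY : Y ≤ N) :
    (normalClosure ((Y.subgroupOf N : Subgroup ↥N) : Set ↥N)).map N.subtype = ncl N Y := by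
  apply le_antisymm
  · rw [Subgroup.map_le_iff_le_comap]
    have hn : ((ncl N Y).comap N.subtype).Normal :=
      (normal_subgroupOf_iff_le_normalizer (ncl_le_self hY)).2 (le_norm_ncl N Y)
    apply normalClosure_le_normal
    intro x hx
    exact le_ncl N Y hx
  · rw [ncl_le_iff]
    rintro n hn _ ⟨y, hy, rfl⟩
    refine ⟨⟨n, hn⟩ * ⟨y, hY hy⟩ * ⟨n, hn⟩⁻¹, ?_, rfl⟩
    exact normalClosure_normal.conj_mem _ (subset_normalClosure (mem_subgroupOf.2 hy)) _

/-! ### Commuting families of elementary abelian groups -/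

theorem ea_iSup {ι : Sort*} {p : ℕ} {A : ι → Subgroup G} (h : ∀ i, IsElementaryAbelian p (A i))
    (hc : ∀ i j, A i ≤ centralizer (A j : Set G)) : IsElementaryAbelian p (⨆ i, A i) := by
  have h1 : ∀ i, A i ≤ centralizer ((⨆ i, A i : Subgroup G) : Set G) := by
    intro i
    apply le_centralizer_comm
    exact iSup_le fun j => hc j i
  refine ea_mono (ea_zOmega p (⨆ i, A i)) (iSup_le fun i x hx => ?_)
  exact ⟨le_iSup A i hx, h1 i hx, (h i).2 x hx⟩

/-! ### Asymmetry -/

theorem comm_of_asym {A : Subgroup G} (hA : ¬ IsSymmetricIn A) {g : G}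
    (h1 : cj g A ≤ normalizer (A : Set G)) (h2 : A ≤ normalizer (cj g A : Set G)) :
    cj g A ≤ centralizer (A : Set G) := by
  by_contra h
  refine hA ⟨g, ?_, le_inf ?_ ?_⟩
  · intro h3
    exact h (le_centralizer_comm (commutator_eq_bot_iff_le_centralizer.1 h3))
  · have := le_norm_iff_comm_le.1 h1
    rwa [commutator_comm] at this
  · exact le_norm_iff_comm_le.1 h2

/-- Asymmetric `A`, `A ≤ R ≤ N_G(A)`: `⟨A^{N_G(R)}⟩` is elementary abelian. -/
theorem ea_ncl_of_asym {p : ℕ} {A R : Subgroup G} (hA : ¬ IsSymmetricIn A) (hp : IsElementaryAbelian p A)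
    (hAR : A ≤ R) (hR : R ≤ normalizer (A : Set G)) :
    IsElementaryAbelian p (ncl (normalizer (R : Set G)) A) := by
  apply ea_iSup
  · intro n; exact ea_map hp _
  · rintro ⟨n, hn⟩ ⟨m, hm⟩
    show cj n A ≤ centralizer (cj m A : Set G)
    have key : ∀ g ∈ normalizer (R : Set G), cj g A ≤ centralizer (A : Set G) := by
      intro g hg
      have h1 : ∀ g ∈ normalizer (R : Set G), cj g A ≤ normalizer (A : Set G) := fun g hg =>
        ((cj_mono hAR).trans (cj_le_of_norm hg)).trans hR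
      apply comm_of_asym hA (h1 g hg)
      rw [← cj_normalizer, le_cj_iff]
      exact h1 _ (inv_mem hg)
    have h2 := key (m⁻¹ * n) (mul_mem (inv_mem hm) hn)
    rw [← cj_centralizer, le_cj_iff, ← cj_mul]
    exact h2

/-! ### Normalizers grow -/

theorem exists_mem_normalizer_of_lt [Finite G] {p : ℕ} [Fact p.Prime] {R₀ R : Subgroup G}
    (hR : IsPGroup p ↥R) (hlt : R₀ < R) : ∃ x ∈ R, x ∈ normalizer (R₀ : Set G) ∧ x ∉ R₀ := by
  have hnil : Group.IsNilpotent ↥R := hR.isNilpotent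
  have hnc : NormalizerCondition ↥R := Group.normalizerCondition_of_isNilpotent
  have hlt' : R₀.subgroupOf R < ⊤ := by
    rw [lt_top_iff_ne_top]
    intro h
    exact hlt.not_ge (subgroupOf_eq_top.1 h)
  obtain ⟨x, hx, hx2⟩ := SetLike.exists_of_lt (hnc _ hlt')
  refine ⟨x, x.2, ?_, fun h => hx2 (mem_subgroupOf.2 h)⟩
  rw [← subgroupOf_normalizer_eq hlt.le] at hx
  exact mem_subgroupOf.1 hx

namespace Setup

variable {p : ℕ} {S : Sylow p G} {Q M : Subgroup G} [Finite G] [Fact p.Prime]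

/-- the key lemma: `N_G(R) ≤ M†` for `p`-subgroups `R` with `O_p(M) ≤ R ≤ M†`. -/
theorem norm_le_dag_aux (h : Setup p S Q M) (ha : ¬ IsSymmetricIn (largestPReducedOf p M)) {R : Subgroup G}
    (hR : IsPGroup p ↥R) (hPR : pCoreOf p M ≤ R) (hRM : R ≤ dag p M) :
    normalizer (R : Set G) ≤ dag p M := by
  set Y := largestPReducedOf p M with hY
  set P := pCoreOf p M with hP
  have hstep : ∀ y : G, (y ∈ M ∨ y ∈ normalizer (R : Set G)) → cj y P ≤ R := by
    rintro y (hy | hy)
    · exact (cj_le_of_norm (le_norm_pCoreOf p M hy)).trans hPR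
    · exact (cj_mono hPR).trans (cj_le_of_norm hy)
  have key : ∀ n : ℕ, ∀ l : List G, l.length = n → (∀ y ∈ l, y ∈ M ∨ y ∈ normalizer (R : Set G)) →
      cj l.prod Y ≤ P := by
    intro n
    induction n with
    | zero =>
      intro l hl _
      rw [List.length_eq_zero_iff] at hl
      rw [hl, List.prod_nil, cj_one]
      exact largest_le_pCoreOf p M
    | succ n ih =>
      have hA : ∀ l : List G, l.length = n + 1 → (∀ y ∈ l, y ∈ M ∨ y ∈ normalizer (R : Set G)) →
          cj l.prod Y ≤ R := by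
        intro l hl hly
        cases l with
        | nil => simp at hl
        | cons y l =>
          rw [List.prod_cons, cj_mul]
          have h1 : cj l.prod Y ≤ P := by
            apply ih l
            · simpa using hl
            · exact fun z hz => hly z (List.mem_cons_of_mem _ hz)
          exact (cj_mono h1).trans (hstep y (hly y List.mem_cons_self))
      intro l hl hly
      have h1 := hA l hl hly
      have h2 := hA ((l.map (fun x => x⁻¹)).reverse) (by simpa using hl) (by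
        intro y hy
        rw [List.mem_reverse, List.mem_map] at hy
        obtain ⟨z, hz, rfl⟩ := hy
        rcases hly z hz with h | h
        · exact Or.inl (inv_mem h)
        · exact Or.inr (inv_mem h))
      rw [← List.prod_inv_reverse] at h2
      have h3 : cj l.prod Y ≤ centralizer (Y : Set G) := by
        apply comm_of_asym ha ((h1.trans hRM).trans dag_le_norm)
        rw [← cj_normalizer, le_cj_iff]
        exact (h2.trans hRM).trans dag_le_norm
      rw [hP, ← h.inf_cent_eq hR hRM hPR]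
      exact le_inf h1 h3
  set X := M ⊔ normalizer (R : Set G) with hX
  have hXY : ∀ x ∈ X, cj x Y ≤ P := by
    intro x hx
    have h1 : X = Subgroup.closure ((M : Set G) ∪ (normalizer (R : Set G) : Set G)) := by
      rw [Subgroup.closure_union, Subgroup.closure_eq, Subgroup.closure_eq]
    rw [h1] at hx
    obtain ⟨l, hl, rfl⟩ := exists_list_of_mem hx
    refine key _ l rfl fun y hy => ?_
    rcases hl y hy with h | h
    · rcases h with h | h
      · exact Or.inl h
      · exact Or.inr h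
    · rcases h with h | h
      · exact Or.inl ((inv_mem_iff (H := M)).1 h)
      · exact Or.inr ((inv_mem_iff (H := normalizer (R : Set G))).1 h)
  have h1 : ncl X Y ≤ P := ncl_le_iff.2 hXY
  have h2 : X ≤ dag p M := by
    refine h.le_dag_of_normal (N := ncl X Y) le_sup_left ?_ (le_norm_ncl X Y)
      (isPGroup_mono h1 (isPGroup_pCoreOf p M)) ?_
    · exact h1.trans ((pCoreOf_le p M).trans le_sup_left)
    · intro h3
      exact h.largest_ne_bot (le_bot_iff.1 (h3 ▸ le_ncl X Y))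
  exact le_sup_right.trans h2

/-- every `p`-subgroup containing `O_p(M)` lies in `M†`. -/
theorem le_dag_of_core_le (h : Setup p S Q M) (ha : ¬ IsSymmetricIn (largestPReducedOf p M))
    {R : Subgroup G} (hR : IsPGroup p ↥R) (hPR : pCoreOf p M ≤ R) : R ≤ dag p M := by
  by_contra hn
  have hlt : R ⊓ dag p M < R := lt_of_le_of_ne inf_le_left fun h2 => hn (inf_eq_left.1 h2)
  obtain ⟨x, hx, hx2, hx3⟩ := exists_mem_normalizer_of_lt hR hlt
  have h1 := h.norm_le_dag_aux ha (R := R ⊓ dag p M) (isPGroup_mono inf_le_left hR)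
    (le_inf hPR ((pCoreOf_le p M).trans le_sup_left)) inf_le_right
  exact hx3 ⟨hx, h1 hx2⟩

/-- `N_G(R) ≤ M†` for all `p`-subgroups `R ≥ O_p(M)`. -/
theorem norm_le_dag (h : Setup p S Q M) (ha : ¬ IsSymmetricIn (largestPReducedOf p M)) {R : Subgroup G}
    (hR : IsPGroup p ↥R) (hPR : pCoreOf p M ≤ R) : normalizer (R : Set G) ≤ dag p M :=
  h.norm_le_dag_aux ha hR hPR (h.le_dag_of_core_le ha hR hPR)

/-- `R ∩ C_G(Y_M) = O_p(M)` for all `p`-subgroups `R ≥ O_p(M)`. -/
theorem inf_cent_eq' (h : Setup p S Q M) (ha : ¬ IsSymmetricIn (largestPReducedOf p M)) {R : Subgroup G}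
    (hR : IsPGroup p ↥R) (hPR : pCoreOf p M ≤ R) :
    R ⊓ centralizer (largestPReducedOf p M : Set G) = pCoreOf p M :=
  h.inf_cent_eq hR (h.le_dag_of_core_le ha hR hPR) hPR

/-- `N_G(R) ≤ N_G(O_p(M))` for all `p`-subgroups `R ≥ O_p(M)`. -/
theorem norm_le_norm_core (h : Setup p S Q M) (ha : ¬ IsSymmetricIn (largestPReducedOf p M))
    {R : Subgroup G} (hR : IsPGroup p ↥R) (hPR : pCoreOf p M ≤ R) :
    normalizer (R : Set G) ≤ normalizer (pCoreOf p M : Set G) := by
  rw [← h.inf_cent_eq' ha hR hPR]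
  refine le_trans ?_ (norm_inf_le _ _)
  exact le_inf le_rfl ((h.norm_le_dag ha hR hPR).trans dag_le_norm_cent)

/-- `O_p(M)` is weakly closed in `G`. -/
theorem core_weaklyClosed (h : Setup p S Q M) (ha : ¬ IsSymmetricIn (largestPReducedOf p M))
    {R : Subgroup G} (hR : IsPGroup p ↥R) (hPR : pCoreOf p M ≤ R) {g : G}
    (hg : cj g (pCoreOf p M) ≤ R) : cj g (pCoreOf p M) = pCoreOf p M :=
  weaklyClosed_of_norm (fun _ hT hPT => h.norm_le_norm_core ha hT hPT) hR hPR hg

/-- Two elements of `Y_M` conjugate in `G` are conjugate in `M`. -/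
theorem fusion (h : Setup p S Q M) (ha : ¬ IsSymmetricIn (largestPReducedOf p M)) {x g : G}
    (hx : x ∈ largestPReducedOf p M) (hg : g * x * g⁻¹ ∈ largestPReducedOf p M) :
    ∃ m ∈ M, m * x * m⁻¹ = g * x * g⁻¹ := by
  set P := pCoreOf p M with hP
  set y := g * x * g⁻¹ with hy
  -- `P` and `cj g P` centralize `y`
  have h1 : P ≤ centralizer ({y} : Set G) := by
    intro z hz
    rw [mem_centralizer_singleton_iff]
    exact ((mem_centralizer_iff.1 (pCoreOf_le_centralizer_largest p M hz)) y hg).symm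
  have h2 : cj g P ≤ centralizer ({y} : Set G) := by
    rintro _ ⟨z, hz, rfl⟩
    rw [mem_centralizer_singleton_iff]
    have := (mem_centralizer_iff.1 (pCoreOf_le_centralizer_largest p M hz)) x hx
    show g * z * g⁻¹ * y = y * (g * z * g⁻¹)
    rw [hy]
    calc g * z * g⁻¹ * (g * x * g⁻¹) = g * (z * x) * g⁻¹ := by group
      _ = g * (x * z) * g⁻¹ := by rw [this]
      _ = g * x * g⁻¹ * (g * z * g⁻¹) := by group
  obtain ⟨T₁, hT₁, hPT₁⟩ := exists_isSylowOf_ge (p := p) h1 (isPGroup_pCoreOf p M)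
  obtain ⟨T₂, hT₂, hPT₂⟩ := exists_isSylowOf_ge (p := p) h2 (isPGroup_cj (isPGroup_pCoreOf p M))
  obtain ⟨c, hc, hcT⟩ := hT₂.exists_conj hT₁
  have h3 : cj (c * g) P ≤ T₁ := by
    rw [cj_mul, ← hcT]
    exact cj_mono hPT₂
  have h4 := h.core_weaklyClosed ha hT₁.isPGroup hPT₁ h3
  have h5 : c * g ∈ dag p M := h.norm_core_le (mem_norm.2 h4)
  obtain ⟨m, hm, d, hd, hmd⟩ := exists_mul h5
  refine ⟨m, hm, ?_⟩
  have h6 : d * x * d⁻¹ = x := by
    have := (mem_centralizer_iff.1 hd) x hx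
    rw [← this]; group
  have h7 : c * y * c⁻¹ = y := by
    have := mem_centralizer_singleton_iff.1 hc
    rw [this]; group
  calc m * x * m⁻¹ = m * (d * x * d⁻¹) * m⁻¹ := by rw [h6]
    _ = (m * d) * x * (m * d)⁻¹ := by group
    _ = (c * g) * x * (c * g)⁻¹ := by rw [hmd]
    _ = c * (g * x * g⁻¹) * c⁻¹ := by group
    _ = y := by rw [← hy, h7]

end Setup

end Cfsg.Agent.H229
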