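import Cfsg.Agent.H230.Rel
import Cfsg.Agent.PLocal.OffenderStep
set_option linter.all false

/-!
# Conjugates, normalizers, `O_p(L)` and `Y_L` of subgroups of an ambient group

`cj g H = g H g⁻¹`; basic facts on `pCoreOf p L`, `largestPReducedOf p L` and characteristic `p` inside an ambient
group `G`.
-/

set_option autoImplicit false
open Cfsg Subgroup
open Cfsg.Agent.H230

namespace Cfsg.Agent.H229

variable {G : Type*} [Group G]

/-! ### Conjugates -/

/-- `g H g⁻¹`. -/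
abbrev cj (g : G) (H : Subgroup G) : Subgroup G := H.map (MulAut.conj g).toMonoidHom

theorem mem_cj {g x : G} {H : Subgroup G} : x ∈ cj g H ↔ g⁻¹ * x * g ∈ H := by
  constructor
  · rintro ⟨y, hy, rfl⟩
    have e : g⁻¹ * ((MulAut.conj g).toMonoidHom y) * g = y := by simp [mul_assoc]
    rw [e]; exact hy
  · intro h
    exact ⟨_, h, by simp [mul_assoc]⟩

theorem conj_mem_cj {g x : G} {H : Subgroup G} (hx : x ∈ H) : g * x * g⁻¹ ∈ cj g H := by
  rw [mem_cj]
  have e : g⁻¹ * (g * x * g⁻¹) * g = x := by group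
  rw [e]; exact hx

theorem conj_mem_cj_iff {g x : G} {H : Subgroup G} : g * x * g⁻¹ ∈ cj g H ↔ x ∈ H := by
  rw [mem_cj]
  have e : g⁻¹ * (g * x * g⁻¹) * g = x := by group
  rw [e]

theorem cj_one (H : Subgroup G) : cj 1 H = H := by
  ext x; rw [mem_cj]; simp

theorem cj_mul (a b : G) (H : Subgroup G) : cj (a * b) H = cj a (cj b H) := by
  ext x
  rw [mem_cj, mem_cj, mem_cj]
  have e : (a * b)⁻¹ * x * (a * b) = b⁻¹ * (a⁻¹ * x * a) * b := by group
  rw [e]

theorem cj_inv_cj (g : G) (H : Subgroup G) : cj g⁻¹ (cj g H) = H := by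
  rw [← cj_mul, inv_mul_cancel, cj_one]

theorem cj_cj_inv (g : G) (H : Subgroup G) : cj g (cj g⁻¹ H) = H := by
  rw [← cj_mul, mul_inv_cancel, cj_one]

theorem cj_mono {g : G} {H K : Subgroup G} (h : H ≤ K) : cj g H ≤ cj g K := Subgroup.map_mono h

theorem cj_le_cj {g : G} {H K : Subgroup G} : cj g H ≤ cj g K ↔ H ≤ K :=
  ⟨fun h => by rw [← cj_inv_cj g H, ← cj_inv_cj g K]; exact cj_mono h, cj_mono⟩

theorem cj_le_iff {g : G} {H K : Subgroup G} : cj g H ≤ K ↔ H ≤ cj g⁻¹ K := by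
  rw [← cj_le_cj (g := g⁻¹), cj_inv_cj]

theorem le_cj_iff {g : G} {H K : Subgroup G} : H ≤ cj g K ↔ cj g⁻¹ H ≤ K := by
  rw [← cj_le_cj (g := g⁻¹), cj_inv_cj]

theorem cj_inj {g : G} {H K : Subgroup G} : cj g H = cj g K ↔ H = K :=
  ⟨fun h => by rw [← cj_inv_cj g H, ← cj_inv_cj g K, h], fun h => by rw [h]⟩

theorem cj_eq_iff {g : G} {H K : Subgroup G} : cj g H = K ↔ H = cj g⁻¹ K := by
  rw [← cj_inj (g := g⁻¹), cj_inv_cj]

theorem cj_bot (g : G) : cj g (⊥ : Subgroup G) = ⊥ := Subgroup.map_bot _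

theorem cj_eq_bot {g : G} {H : Subgroup G} : cj g H = ⊥ ↔ H = ⊥ := by
  rw [cj_eq_iff, cj_bot]

theorem cj_top (g : G) : cj g (⊤ : Subgroup G) = ⊤ := by
  ext x; rw [mem_cj]; exact ⟨fun _ => mem_top _, fun _ => mem_top _⟩

theorem cj_sup (g : G) (H K : Subgroup G) : cj g (H ⊔ K) = cj g H ⊔ cj g K := Subgroup.map_sup _ _ _

theorem cj_inf (g : G) (H K : Subgroup G) : cj g (H ⊓ K) = cj g H ⊓ cj g K := by
  ext x; simp only [mem_inf, mem_cj]

theorem cj_comm (g : G) (H K : Subgroup G) : cj g ⁅H, K⁆ = ⁅cj g H, cj g K⁆ :=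
  Subgroup.map_commutator _ _ _

theorem cj_centralizer (g : G) (H : Subgroup G) :
    cj g (centralizer (H : Set G)) = centralizer (cj g H : Set G) :=
  (centralizer_map_equiv (MulAut.conj g) H).symm

theorem mem_norm {g : G} {H : Subgroup G} : g ∈ normalizer (H : Set G) ↔ cj g H = H :=
  map_conj_eq_iff_mem_normalizer.symm

theorem cj_normalizer (g : G) (H : Subgroup G) :
    cj g (normalizer (H : Set G)) = normalizer (cj g H : Set G) := by
  ext x
  rw [mem_cj, mem_norm, mem_norm, cj_mul, cj_mul, cj_eq_iff, inv_inv]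

theorem isPGroup_cj {p : ℕ} {g : G} {H : Subgroup G} (h : IsPGroup p ↥H) : IsPGroup p ↥(cj g H) :=
  h.map _

theorem cj_le_of_norm {g : G} {H : Subgroup G} (h : g ∈ normalizer (H : Set G)) : cj g H ≤ H :=
  (mem_norm.1 h).le

theorem cj_mem_self {g : G} {H : Subgroup G} (h : g ∈ H) : cj g H = H := mem_norm.1 (le_normalizer h)

/-! ### Normalizers, centralizers and commutators -/

theorem le_norm_iff {H K : Subgroup G} :
    K ≤ normalizer (H : Set G) ↔ ∀ k ∈ K, ∀ h ∈ H, k * h * k⁻¹ ∈ H := Subgroup.le_normalizer_iff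

theorem le_norm_iff_comm_le {H K : Subgroup G} : K ≤ normalizer (H : Set G) ↔ ⁅K, H⁆ ≤ H := by
  rw [le_norm_iff, commutator_le]
  constructor
  · intro h k hk x hx
    rw [commutatorElement_def]
    exact H.mul_mem (h k hk x hx) (H.inv_mem hx)
  · intro h k hk x hx
    have := H.mul_mem (h k hk x hx) hx
    rw [commutatorElement_def] at this
    simpa [mul_assoc] using this

theorem norm_inf_le (H K : Subgroup G) :
    normalizer (H : Set G) ⊓ normalizer (K : Set G) ≤ normalizer ((H ⊓ K : Subgroup G) : Set G) := by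
  intro x hx
  rw [mem_norm, cj_inf, mem_norm.1 hx.1, mem_norm.1 hx.2]

theorem norm_sup_le (H K : Subgroup G) :
    normalizer (H : Set G) ⊓ normalizer (K : Set G) ≤ normalizer ((H ⊔ K : Subgroup G) : Set G) := by
  intro x hx
  rw [mem_norm, cj_sup, mem_norm.1 hx.1, mem_norm.1 hx.2]

theorem norm_comm_le (H K : Subgroup G) :
    normalizer (H : Set G) ⊓ normalizer (K : Set G) ≤ normalizer ((⁅H, K⁆ : Subgroup G) : Set G) := by
  intro x hx
  rw [mem_norm, cj_comm, mem_norm.1 hx.1, mem_norm.1 hx.2]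

theorem norm_le_norm_centralizer (H : Subgroup G) :
    normalizer (H : Set G) ≤ normalizer ((centralizer (H : Set G) : Subgroup G) : Set G) := by
  intro x hx
  rw [mem_norm, cj_centralizer, mem_norm.1 hx]

theorem centralizer_le_norm (H : Subgroup G) : centralizer (H : Set G) ≤ normalizer (H : Set G) :=
  centralizer_le_normalizer _

theorem le_centralizer_comm {H K : Subgroup G} (h : H ≤ centralizer (K : Set G)) :
    K ≤ centralizer (H : Set G) := Subgroup.le_centralizer_iff.1 h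

/-- the join of two subgroups, one normalizing the other, elementwise -/
theorem mem_sup_of_norm {H K : Subgroup G} (h : K ≤ normalizer (H : Set G)) {x : G} :
    x ∈ H ⊔ K ↔ ∃ a ∈ H, ∃ b ∈ K, a * b = x := by
  rw [← SetLike.mem_coe, Subgroup.coe_mul_of_right_le_normalizer_left H K h, Set.mem_mul]
  rfl

theorem isPGroup_mono {p : ℕ} {H K : Subgroup G} (h : H ≤ K) (hK : IsPGroup p ↥K) : IsPGroup p ↥H :=
  hK.to_le h

theorem isPGroup_sup_of_norm {p : ℕ} {H K : Subgroup G} (hH : IsPGroup p ↥H) (hK : IsPGroup p ↥K)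
    (h : K ≤ normalizer (H : Set G)) : IsPGroup p ↥(H ⊔ K : Subgroup G) :=
  IsPGroup.to_sup_of_normal_left' hH hK h

/-! ### `O_p(L)` -/

theorem pCoreOf_le (p : ℕ) (L : Subgroup G) : pCoreOf p L ≤ L := Subgroup.map_subtype_le _

theorem isPGroup_pCoreOf (p : ℕ) (L : Subgroup G) : IsPGroup p ↥(pCoreOf p L) :=
  (Lib.Cores.pCore_isPGroup p).map _

theorem norm_le_norm_pCoreOf (p : ℕ) (L : Subgroup G) :
    normalizer (L : Set G) ≤ normalizer (pCoreOf p L : Set G) := normalizer_le_normalizer_pCoreOf p L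

theorem le_norm_pCoreOf (p : ℕ) (L : Subgroup G) : L ≤ normalizer (pCoreOf p L : Set G) :=
  le_normalizer.trans (norm_le_norm_pCoreOf p L)

theorem le_pCoreOf {p : ℕ} {N L : Subgroup G} (hN : N ≤ L) (hL : L ≤ normalizer (N : Set G))
    (hp : IsPGroup p ↥N) : N ≤ pCoreOf p L := by
  have h1 : (N.subgroupOf L).Normal := (normal_subgroupOf_iff_le_normalizer hN).2 hL
  have h2 : IsPGroup p ↥(N.subgroupOf L) := hp.comap_of_injective L.subtype L.subtype_injective
  have h3 := Lib.Cores.le_pCore h1 h2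
  have h4 := Subgroup.map_mono (f := L.subtype) h3
  rwa [Subgroup.subgroupOf_map_subtype, inf_eq_left.2 hN] at h4

theorem pCoreOf_eq_bot_iff {p : ℕ} {L : Subgroup G} : pCoreOf p L = ⊥ ↔ pCore p ↥L = ⊥ :=
  Subgroup.map_eq_bot_iff_of_injective _ L.subtype_injective

theorem pCoreOf_cj (p : ℕ) (g : G) (L : Subgroup G) : pCoreOf p (cj g L) = cj g (pCoreOf p L) := by
  apply le_antisymm
  · rw [le_cj_iff]
    apply le_pCoreOf
    · rw [cj_le_iff, inv_inv]
      exact pCoreOf_le _ _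
    · rw [← cj_normalizer, le_cj_iff, inv_inv]
      exact le_norm_pCoreOf _ _
    · exact isPGroup_cj (isPGroup_pCoreOf _ _)
  · apply le_pCoreOf
    · exact cj_mono (pCoreOf_le _ _)
    · rw [← cj_normalizer]
      exact cj_mono (le_norm_pCoreOf _ _)
    · exact isPGroup_cj (isPGroup_pCoreOf _ _)

/-- if `K ≤ L` is normalized by `L` then `O_p(K) ≤ O_p(L)`. -/
theorem pCoreOf_le_pCoreOf {p : ℕ} {K L : Subgroup G} (hK : K ≤ L) (hL : L ≤ normalizer (K : Set G)) :
    pCoreOf p K ≤ pCoreOf p L :=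
  le_pCoreOf ((pCoreOf_le _ _).trans hK) (hL.trans (norm_le_norm_pCoreOf _ _)) (isPGroup_pCoreOf _ _)

/-- `O_p(L) ∩ P ≤ O_p(P)` for `P ≤ L`. -/
theorem pCoreOf_inf_le {p : ℕ} {P L : Subgroup G} (hP : P ≤ L) : pCoreOf p L ⊓ P ≤ pCoreOf p P := by
  refine le_pCoreOf inf_le_right ?_ (isPGroup_mono inf_le_left (isPGroup_pCoreOf p L))
  refine le_trans ?_ (norm_inf_le _ _)
  exact le_inf (hP.trans (le_norm_pCoreOf p L)) le_normalizer

/-- a normal `p`-subgroup lies in every maximal `p`-subgroup -/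
theorem pCoreOf_le_of_isSylowOf {p : ℕ} {T L : Subgroup G} (hT : IsSylowOf p T L) : pCoreOf p L ≤ T := by
  obtain ⟨P, rfl⟩ := hT
  exact Subgroup.map_mono (Lib.Cores.pCore_le_sylow P)

/-! ### Characteristic `p` -/

/-- `L` has characteristic `p`, in the ambient group. -/
def ChP (p : ℕ) (L : Subgroup G) : Prop := L ⊓ centralizer (pCoreOf p L : Set G) ≤ pCoreOf p L

theorem mem_centralizer_pCore {p : ℕ} {L : Subgroup G} {x : ↥L} :
    x ∈ centralizer (pCore p ↥L : Set ↥L) ↔ (x : G) ∈ centralizer (pCoreOf p L : Set G) := by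
  rw [mem_centralizer_iff, mem_centralizer_iff]
  constructor
  · rintro h _ ⟨y, hy, rfl⟩
    exact congrArg Subtype.val (h y hy)
  · intro h y hy
    exact Subtype.ext (h y ⟨y, hy, rfl⟩)

theorem chP_iff {p : ℕ} {L : Subgroup G} :
    ChP p L ↔ centralizer (pCore p ↥L : Set ↥L) ≤ pCore p ↥L := by
  constructor
  · intro h x hx
    have h1 := h ⟨x.2, mem_centralizer_pCore.1 hx⟩
    obtain ⟨y, hy, hyx⟩ := h1
    rwa [← Subtype.ext hyx]
  · rintro h x ⟨hx, hxc⟩
    exact ⟨⟨x, hx⟩, h (mem_centralizer_pCore.2 hxc), rfl⟩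

theorem mem_charPSubgroups {p : ℕ} {L : Subgroup G} :
    L ∈ charPSubgroups p G ↔ pCoreOf p L ≠ ⊥ ∧ centralizer (pCoreOf p L : Set G) ≤ pCoreOf p L := by
  change pCore p ↥L ≠ ⊥ ∧ centralizer (pCoreOf p L : Set G) ≤ pCoreOf p L ↔ _
  exact and_congr_left fun _ => pCoreOf_eq_bot_iff.symm.not

theorem ChP.cj {p : ℕ} {L : Subgroup G} (h : ChP p L) (g : G) : ChP p (cj g L) := by
  unfold ChP at h ⊢
  rw [pCoreOf_cj, ← cj_centralizer, ← cj_inf]
  exact cj_mono h

theorem mem_charPSubgroups_cj {p : ℕ} {L : Subgroup G} (h : L ∈ charPSubgroups p G) (g : G) :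
    H229.cj g L ∈ charPSubgroups p G := by
  rw [mem_charPSubgroups] at h ⊢
  refine ⟨?_, ?_⟩
  · rw [pCoreOf_cj]
    exact fun h2 => h.1 (cj_eq_bot.1 h2)
  · rw [pCoreOf_cj, ← cj_centralizer]
    exact cj_mono h.2

theorem chP_of_mem_charPSubgroups {p : ℕ} {L : Subgroup G} (h : L ∈ charPSubgroups p G) : ChP p L :=
  inf_le_right.trans (mem_charPSubgroups.1 h).2

/-- a subgroup with a nontrivial normal `p`-subgroup containing its centralizer is in `𝓛_G`. -/
theorem mem_charPSubgroups_of_le {p : ℕ} {N L : Subgroup G} (hN : N ≤ L) (hL : L ≤ normalizer (N : Set G))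
    (hp : IsPGroup p ↥N) (h1 : N ≠ ⊥) (hc : centralizer (N : Set G) ≤ N) : L ∈ charPSubgroups p G := by
  have h2 := le_pCoreOf hN hL hp
  rw [mem_charPSubgroups]
  refine ⟨fun h => h1 (le_bot_iff.1 (h ▸ h2)), ?_⟩
  exact (centralizer_le h2).trans (hc.trans h2)

/-! ### Elements of order prime to `p` acting on `p`-groups -/

/-- if `x ^ m = 1` and `[x, q]` commutes with `x`, then `[x,q] ^ m = 1`. -/
theorem comm_pow_eq_one {x q : G} {m : ℕ} (hx : x ^ m = 1)
    (hd : Commute x (q⁻¹ * (x * q * x⁻¹))) : (q⁻¹ * (x * q * x⁻¹)) ^ m = 1 := by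
  set d := q⁻¹ * (x * q * x⁻¹) with hdd
  have h0 : x * q * x⁻¹ = q * d := by rw [hdd]; group
  have key : ∀ n : ℕ, x ^ n * q * (x ^ n)⁻¹ = q * d ^ n := by
    intro n
    induction n with
    | zero => simp
    | succ n ih =>
      have e : x ^ (n + 1) * q * (x ^ (n + 1))⁻¹ = x * (x ^ n * q * (x ^ n)⁻¹) * x⁻¹ := by
        rw [pow_succ']; group
      rw [e, ih]
      have h3 : x * (q * d ^ n) * x⁻¹ = (x * q * x⁻¹) * (x * d ^ n * x⁻¹) := by group
      have h4 : x * d ^ n * x⁻¹ = d ^ n := by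
        rw [(hd.pow_right n).eq]; group
      rw [h3, h4, h0, pow_succ', mul_assoc]
  have h5 := key m
  rw [hx] at h5
  simpa using h5

/-- an element of order prime to `p` acting on a `p`-group `Q` with `[Q, x, x] = 1` centralizes `Q`. -/
theorem mem_centralizer_of_quadratic {p : ℕ} {Q D : Subgroup G} {x : G}
    (hQ : IsPGroup p ↥Q) (hDQ : D ≤ Q) (hx : (orderOf x).Coprime p)
    (h1 : ∀ q ∈ Q, q⁻¹ * (x * q * x⁻¹) ∈ D) (h2 : ∀ d ∈ D, Commute x d) :
    x ∈ centralizer (Q : Set G) := by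
  rw [mem_centralizer_iff]
  intro q hq
  have hd := h1 q hq
  have h3 := comm_pow_eq_one (pow_orderOf_eq_one x) (h2 _ hd)
  obtain ⟨k, hk⟩ := hQ ⟨_, hDQ hd⟩
  have hk' : (q⁻¹ * (x * q * x⁻¹)) ^ p ^ k = 1 := by
    have := congrArg (Subtype.val) hk
    simpa using this
  have h4 : orderOf (q⁻¹ * (x * q * x⁻¹)) ∣ orderOf x := orderOf_dvd_of_pow_eq_one h3
  have h5 : orderOf (q⁻¹ * (x * q * x⁻¹)) ∣ p ^ k := orderOf_dvd_of_pow_eq_one hk'
  have h6 : orderOf (q⁻¹ * (x * q * x⁻¹)) = 1 :=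
    Nat.eq_one_of_dvd_coprimes (Nat.Coprime.pow_right k hx) h4 h5
  rw [orderOf_eq_one_iff] at h6
  have h7 : x * q * x⁻¹ = q := by
    have := congrArg (fun z => q * z) h6
    simpa [mul_assoc] using this
  calc q * x = (x * q * x⁻¹) * x := by rw [h7]
    _ = x * q := by group

/-- a finite group all of whose elements of order prime to `p` are trivial is a `p`-group -/
theorem isPGroup_of_coprime_trivial {H : Type*} [Group H] [Finite H] {p : ℕ} [hp : Fact p.Prime]
    (h : ∀ x : H, (orderOf x).Coprime p → x = 1) : IsPGroup p H := by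
  rw [IsPGroup.iff_card]
  have hne : Nat.card H ≠ 0 := Nat.card_pos.ne'
  refine ⟨_, Nat.eq_prime_pow_of_unique_prime_dvd hne ?_⟩
  intro q hq hqd
  have : Fact q.Prime := ⟨hq⟩
  obtain ⟨x, hx⟩ := exists_prime_orderOf_dvd_card' q hqd
  by_contra hqp
  have h1 : (orderOf x).Coprime p := by rw [hx]; exact (Nat.coprime_primes hq hp.out).2 hqp
  have h2 := h x h1
  rw [h2, orderOf_one] at hx
  exact hq.one_lt.ne hx

theorem subgroup_isPGroup_of_coprime_trivial [Finite G] {p : ℕ} [hp : Fact p.Prime] {C : Subgroup G}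
    (h : ∀ x ∈ C, (orderOf x).Coprime p → x = 1) : IsPGroup p ↥C :=
  isPGroup_of_coprime_trivial fun x hx => Subtype.ext (h x x.2 (by rwa [Subgroup.orderOf_coe]))

/-- A subgroup `K` of characteristic-`p` group `L` normalized by `L` has characteristic `p`. -/
theorem ChP.normal [Finite G] {p : ℕ} [Fact p.Prime] {K L : Subgroup G} (h : ChP p L) (hK : K ≤ L)
    (hL : L ≤ normalizer (K : Set G)) : ChP p K := by
  unfold ChP
  set C := K ⊓ centralizer (pCoreOf p K : Set G) with hC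
  have hLC : L ≤ normalizer (C : Set G) := by
    refine le_trans ?_ (norm_inf_le _ _)
    exact le_inf hL (hL.trans ((norm_le_norm_pCoreOf p K).trans (norm_le_norm_centralizer _)))
  have hCp : IsPGroup p ↥C := by
    apply subgroup_isPGroup_of_coprime_trivial
    intro x hx hxo
    have hx1 : x ∈ centralizer (pCoreOf p L : Set G) := by
      refine mem_centralizer_of_quadratic (D := pCoreOf p L ⊓ K) (isPGroup_pCoreOf p L) inf_le_left hxo ?_ ?_
      · intro q hq
        refine ⟨?_, ?_⟩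
        · exact (pCoreOf p L).mul_mem ((pCoreOf p L).inv_mem hq) ((le_norm_iff.1 (le_norm_pCoreOf p L)) x (hK hx.1) q hq)
        · have hqL : q ∈ L := pCoreOf_le _ _ hq
          have h3 : q⁻¹ * x * q ∈ K := by
            have := (le_norm_iff.1 hL) q⁻¹ (L.inv_mem hqL) x hx.1
            simpa using this
          have e : q⁻¹ * (x * q * x⁻¹) = (q⁻¹ * x * q) * x⁻¹ := by group
          rw [e]
          exact K.mul_mem h3 (K.inv_mem hx.1)
      · intro d hd
        have h3 : d ∈ pCoreOf p K := pCoreOf_inf_le hK hd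
        exact ((mem_centralizer_iff.1 hx.2) d h3).symm
    have hx2 : x ∈ pCoreOf p L := h ⟨hK hx.1, hx1⟩
    obtain ⟨k, hk⟩ := isPGroup_pCoreOf p L ⟨x, hx2⟩
    have hk' : x ^ p ^ k = 1 := by
      have := congrArg (Subtype.val) hk
      simpa using this
    have h5 : orderOf x ∣ p ^ k := orderOf_dvd_of_pow_eq_one hk'
    have h6 : orderOf x = 1 := Nat.eq_one_of_dvd_coprimes (Nat.Coprime.pow_right k hxo) dvd_rfl h5
    exact orderOf_eq_one_iff.1 h6
  exact le_pCoreOf inf_le_left (hK.trans hLC) hCp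

end Cfsg.Agent.H229
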